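import Mathlib
import Groth.Agent.Lib.Lead.QC.SubSh
import Groth.Agent.Lib.Lead.QC.InvBasis

set_option autoImplicit false
universe u
open CategoryTheory Limits Opposite AlgebraicGeometry TopologicalSpace

namespace Groth.Agent.H5.FiltEpi
open Groth.Agent.LD.QC

variable {X : Scheme.{u}} {J : Type u} [SmallCategory J] (D : J ⥤ X.Modules)
  (c : Cocone D)

/-- the cocone leg, with codomain `c.pt`. -/
noncomputable def leg (j : J) : D.obj j ⟶ c.pt := c.ι.app j

lemma leg_eq (j : J) : leg D c j = c.ι.app j := rfl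

lemma map_leg {j j' : J} (a : j ⟶ j') : D.map a ≫ leg D c j' = leg D c j := c.w a

lemma leg_map {j j' : J} (a : j ⟶ j') (W : X.Opens) (t : Γ(D.obj j, W)) :
    (leg D c j').app W ((D.map a).app W t) = (leg D c j).app W t := by
  rw [← map_leg D c a]
  rfl

/-- a section of the cocone point comes, near every point, from a stage. -/
def LocStage (W : X.Opens) (s : Γ(c.pt, W)) : Prop :=
  ∀ x ∈ W, ∃ (W' : X.Opens) (h : W' ≤ W), x ∈ W' ∧ ∃ (j : J) (t : Γ(D.obj j, W')),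
    (leg D c j).app W' t = c.pt.presheaf.map (homOfLE h).op s

variable [IsFiltered J]

/-- the subsheaf of sections locally coming from a stage. -/
noncomputable def stageSub : SubSh c.pt where
  N W :=
    { carrier := {s | LocStage D c W s}
      zero_mem' := by
        intro x hx
        refine ⟨W, le_rfl, hx, IsFiltered.nonempty.some, 0, ?_⟩
        rw [map_zero, map_zero]
      add_mem' := by
        intro s₁ s₂ h₁ h₂ x hx
        obtain ⟨W₁, hW₁, hx₁, j₁, t₁, e₁⟩ := h₁ x hx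
        obtain ⟨W₂, hW₂, hx₂, j₂, t₂, e₂⟩ := h₂ x hx
        let j₃ := IsFiltered.max j₁ j₂
        let a₁ : j₁ ⟶ j₃ := IsFiltered.leftToMax j₁ j₂
        let a₂ : j₂ ⟶ j₃ := IsFiltered.rightToMax j₁ j₂
        have hl : W₁ ⊓ W₂ ≤ W₁ := inf_le_left
        have hr : W₁ ⊓ W₂ ≤ W₂ := inf_le_right
        refine ⟨W₁ ⊓ W₂, hl.trans hW₁, ⟨hx₁, hx₂⟩, j₃,
          (D.map a₁).app _ ((D.obj j₁).presheaf.map (homOfLE hl).op t₁) +
            (D.map a₂).app _ ((D.obj j₂).presheaf.map (homOfLE hr).op t₂), ?_⟩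
        rw [map_add, leg_map, leg_map, app_res, app_res, e₁, e₂, res_res, res_res, map_add]
      smul_mem' := by
        intro r s h x hx
        obtain ⟨W₁, hW₁, hx₁, j₁, t₁, e₁⟩ := h x hx
        refine ⟨W₁, hW₁, hx₁, j₁, X.presheaf.map (homOfLE hW₁).op r • t₁, ?_⟩
        rw [Scheme.Modules.Hom.app_smul, e₁, smul_res] }
  res {W W'} h s hs := by
    intro x hx
    obtain ⟨W₁, hW₁, hx₁, j₁, t₁, e₁⟩ := hs x (h hx)
    have hl : W₁ ⊓ W' ≤ W₁ := inf_le_left
    refine ⟨W₁ ⊓ W', inf_le_right, ⟨hx₁, hx⟩, j₁, (D.obj j₁).presheaf.map (homOfLE hl).op t₁, ?_⟩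
    rw [app_res, e₁, res_res, res_res]
  loc W s hs := by
    intro x hx
    obtain ⟨W', hW', hxW', hmem⟩ := hs x hx
    obtain ⟨W₁, hW₁, hx₁, j₁, t₁, e₁⟩ := hmem x hxW'
    refine ⟨W₁, hW₁.trans hW', hx₁, j₁, t₁, ?_⟩
    rw [e₁, res_res]

end Groth.Agent.H5.FiltEpi
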