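import Mathlib
import Groth.Agent.Lib.Helper5.FiltEpi.A

set_option autoImplicit false
universe u
open CategoryTheory Limits Opposite AlgebraicGeometry TopologicalSpace

namespace Groth.Agent.H5.FiltEpi
open Groth.Agent.LD.QC

variable {X : Scheme.{u}} {J : Type u} [SmallCategory J] [IsFiltered J] (D : J ⥤ X.Modules)
  (c : Cocone D)

/-- every section of a filtered colimit comes locally from a stage. -/
theorem locStage_of_isColimit (hc : IsColimit c) (W : X.Opens) (s : Γ(c.pt, W)) :
    LocStage D c W s := by
  let S := stageSub D c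
  let q := cokernel.π S.ι
  have h0 : ∀ j, leg D c j ≫ q = 0 := by
    intro j
    apply Scheme.Modules.hom_ext
    intro W
    ext t
    change q.app W ((leg D c j).app W t) = 0
    have hmem : (leg D c j).app W t ∈ S.N W := by
      intro x hx
      exact ⟨W, le_rfl, hx, j, t, by rw [res_self]⟩
    obtain ⟨t', ht'⟩ := (S.mem_iff W _).mp hmem
    rw [← ht']
    change (S.ι ≫ q).app W t' = 0
    rw [cokernel.condition]
    rfl
  have hq : q = 0 := hc.hom_ext (fun j => by
    have := h0 j
    rw [leg_eq] at this
    rw [this, comp_zero])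
  haveI : Epi S.ι := Preadditive.epi_of_cokernel_zero hq
  haveI : IsIso S.ι := isIso_of_mono_of_epi S.ι
  have hb := app_bijective_of_isIso S.ι W
  obtain ⟨t, ht⟩ := hb.2 s
  exact (S.mem_iff W s).mpr ⟨t, ht⟩

end Groth.Agent.H5.FiltEpi
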