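import Mathlib
import Groth.Agent.Lib.Helper5.FiltEpi.B
import Groth.Agent.Lib.Lead.QC.Stalk
import Groth.Agent.Lib.Lead.QC.FinType
import Groth.Agent.Lib.Lead.QC.Epi
import Groth.Agent.Lib.Lead.QC.Gen

set_option autoImplicit false
universe u
open CategoryTheory Limits Opposite AlgebraicGeometry TopologicalSpace

namespace Groth.Agent.H5.FiltEpi
open Groth.Agent.LD.QC

variable {X : Scheme.{u}} {J : Type u} [SmallCategory J] [IsFiltered J] (D : J ⥤ X.Modules)
  (c : Cocone D)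

/-- a morphism killing a generating family of sections over an affine open `U`, near `x`, has
vanishing germs at `x`. -/
theorem germ_eq_zero_of_kill {F Q : X.Modules} [F.IsQuasicoherent] (π : F ⟶ Q) {U : X.Opens}
    (hU : IsAffineOpen U) (x : X) (hxU : x ∈ U) (S : Set Γ(F, U))
    (hS : Submodule.span Γ(X, U) S = ⊤) (W₀ : X.Opens) (hW₀ : W₀ ≤ U) (hxW₀ : x ∈ W₀)
    (hkill : ∀ f ∈ S, π.app W₀ (F.presheaf.map (homOfLE hW₀).op f) = 0)
    {V₁ : X.Opens} (hxV₁ : x ∈ V₁) (s : Γ(F, V₁)) :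
    Q.presheaf.germ V₁ x hxV₁ (π.app V₁ s) = 0 := by
  have hspan : ∀ m ∈ Submodule.span Γ(X, U) S,
      π.app W₀ (F.presheaf.map (homOfLE hW₀).op m) = 0 := by
    intro m hm
    induction hm using Submodule.span_induction with
    | mem f hf => exact hkill f hf
    | zero => rw [map_zero, map_zero]
    | add a b _ _ ha hb => rw [map_add, map_add, ha, hb, add_zero]
    | smul r a _ ha => rw [smul_res, Scheme.Modules.Hom.app_smul, ha, smul_zero]
  letI := stalkΓModule F x U hxU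
  haveI := isLocalizedModule_germ F hU x hxU
  obtain ⟨⟨m, r⟩, hmr⟩ := IsLocalizedModule.surj (hU.primeIdealOf ⟨x, hxU⟩).asIdeal.primeCompl
    (germLinear F x U hxU) (F.presheaf.germ V₁ x hxV₁ s)
  have hmr' : X.presheaf.germ U x hxU r.1 • F.presheaf.germ V₁ x hxV₁ s =
      F.presheaf.germ U x hxU m := hmr
  have hπm : π.app W₀ (F.presheaf.map (homOfLE hW₀).op m) = 0 :=
    hspan m (hS ▸ Submodule.mem_top)
  -- spread the germ identity
  have hxV₂ : x ∈ V₁ ⊓ U := ⟨hxV₁, hxU⟩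
  have hl : V₁ ⊓ U ≤ V₁ := inf_le_left
  have hr : V₁ ⊓ U ≤ U := inf_le_right
  have hg : F.presheaf.germ (V₁ ⊓ U) x hxV₂ (X.presheaf.map (homOfLE hr).op r.1 •
      F.presheaf.map (homOfLE hl).op s) =
      F.presheaf.germ (V₁ ⊓ U) x hxV₂ (F.presheaf.map (homOfLE hr).op m) := by
    rw [germ_smul, sgerm_res, germ_res, germ_res]
    exact hmr'
  obtain ⟨W₁, hxW₁, iU, iV, e⟩ := TopCat.Presheaf.germ_eq F.presheaf x hxV₂ hxV₂ _ _ hg
  have hW₁ : W₁ ≤ V₁ ⊓ U := iU.le
  have e' : F.presheaf.map (homOfLE hW₁).op (X.presheaf.map (homOfLE hr).op r.1 •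
      F.presheaf.map (homOfLE hl).op s) =
      F.presheaf.map (homOfLE hW₁).op (F.presheaf.map (homOfLE hr).op m) := e
  rw [smul_res, res_res, res_res, sres_res] at e'
  -- restrict to `W₂ = W₁ ⊓ W₀`
  have hxW₂ : x ∈ W₁ ⊓ W₀ := ⟨hxW₁, hxW₀⟩
  have h1 : W₁ ⊓ W₀ ≤ W₁ := inf_le_left
  have h0 : W₁ ⊓ W₀ ≤ W₀ := inf_le_right
  have e2 := congrArg (fun z => π.app (W₁ ⊓ W₀) (F.presheaf.map (homOfLE h1).op z)) e'
  simp only [smul_res, res_res, sres_res, Scheme.Modules.Hom.app_smul] at e2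
  have e3 : π.app (W₁ ⊓ W₀) (F.presheaf.map (homOfLE (h1.trans (hW₁.trans hr))).op m) = 0 := by
    have : F.presheaf.map (homOfLE (h1.trans (hW₁.trans hr))).op m =
        F.presheaf.map (homOfLE h0).op (F.presheaf.map (homOfLE hW₀).op m) := by
      rw [res_res]
    rw [this, app_res, hπm, map_zero]
  rw [e3, app_res] at e2
  -- take germs
  have e4 := congrArg (fun z => Q.presheaf.germ (W₁ ⊓ W₀) x hxW₂ z) e2
  simp only [germ_smul, sgerm_res, germ_res, map_zero] at e4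
  obtain ⟨v, hv⟩ := isUnit_germ_of_notMem hU x hxU r.1 r.2
  rw [← hv] at e4
  have e5 := congrArg (fun z => (↑v⁻¹ : X.presheaf.stalk x) • z) e4
  simpa [smul_smul] using e5

end Groth.Agent.H5.FiltEpi
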