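import Mathlib
import Groth.Agent.Lib.Helper5.FiltEpi.C

set_option autoImplicit false
universe u
open CategoryTheory Limits Opposite AlgebraicGeometry TopologicalSpace

namespace Groth.Agent.H5.FiltEpi
open Groth.Agent.LD.QC

variable {X : Scheme.{u}} {J : Type u} [SmallCategory J] [IsFiltered J] (D : J ⥤ X.Modules)
  (c : Cocone D)

theorem exists_stage_stalk_cokernel (hc : IsColimit c) [hcq : c.pt.IsQuasicoherent]
    (F : X.Modules) [hFq : F.IsQuasicoherent] (hF : F.IsFiniteType) (u : c.pt ⟶ F) [Epi u]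
    (x : X) :
    ∃ (j : J) (W₀ : X.Opens), x ∈ W₀ ∧ ∀ (j' : J), Nonempty (j ⟶ j') → ∀ y ∈ W₀,
      Subsingleton ((cokernel (leg D c j' ≫ u)).presheaf.stalk y) := by
  classical
  obtain ⟨U, hU, hxU, -⟩ := exists_isAffineOpen_mem_and_subset (x := x) (U := ⊤) trivial
  haveI : Module.Finite Γ(X, U) Γ(F, U) := finite_sections_of_isFiniteType F hF hU
  obtain ⟨S, hS⟩ := (Module.Finite.fg_top : (⊤ : Submodule Γ(X, U) Γ(F, U)).FG)
  have hsurj := epi_app_affine hcq hFq u hU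
  have H : ∀ f : S, ∃ (W : X.Opens) (hW : W ≤ U), x ∈ W ∧ ∃ (j : J) (t : Γ(D.obj j, W)),
      u.app W ((leg D c j).app W t) = F.presheaf.map (homOfLE hW).op f.1 := by
    intro f
    obtain ⟨g, hg⟩ := hsurj f.1
    obtain ⟨W, hW, hxW, j, t, e⟩ := locStage_of_isColimit D c hc U g x hxU
    refine ⟨W, hW, hxW, j, t, ?_⟩
    rw [e, app_res, hg]
  choose W hW hxW jj t ht using H
  obtain ⟨j₀, hj₀⟩ := IsFiltered.sup_objs_exists (Finset.univ.image jj)
  let W₀ : X.Opens := U ⊓ ⨅ f : S, W f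
  have hxW₀ : x ∈ W₀ := by
    refine ⟨hxU, ?_⟩
    rw [SetLike.mem_coe, ← SetLike.mem_coe, Opens.coe_iInf]
    exact Set.mem_iInter.mpr hxW
  have hW₀U : W₀ ≤ U := inf_le_left
  refine ⟨j₀, W₀, hxW₀, fun j' hb y hyW₀ => ?_⟩
  obtain ⟨b⟩ := hb
  have hyU : y ∈ U := hW₀U hyW₀
  set φ := leg D c j' ≫ u with hφ
  let π := cokernel.π φ
  have hkill : ∀ f ∈ (S : Set Γ(F, U)),
      π.app W₀ (F.presheaf.map (homOfLE hW₀U).op f) = 0 := by
    intro f hf
    have hle : W₀ ≤ W ⟨f, hf⟩ := inf_le_right.trans (iInf_le _ (⟨f, hf⟩ : S))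
    obtain ⟨a⟩ := hj₀ (Finset.mem_image_of_mem jj (Finset.mem_univ (⟨f, hf⟩ : S)))
    have e1 : F.presheaf.map (homOfLE hW₀U).op f =
        φ.app W₀ ((D.map (a ≫ b)).app W₀
          ((D.obj (jj ⟨f, hf⟩)).presheaf.map (homOfLE hle).op (t ⟨f, hf⟩))) := by
      change _ = u.app W₀ ((leg D c j').app W₀ _)
      rw [leg_map, app_res, app_res, ht ⟨f, hf⟩, res_res]
    rw [e1]
    change (φ ≫ π).app W₀ _ = 0
    rw [cokernel.condition]
    rfl
  suffices h : ∀ z : (cokernel φ).presheaf.stalk y, z = 0 from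
    ⟨fun a b => by rw [h a, h b]⟩
  intro z
  obtain ⟨V, hyV, q, rfl⟩ := TopCat.Presheaf.exists_germ_eq (cokernel φ).presheaf z
  obtain ⟨V₁, hV₁, hyV₁, s, hs⟩ := exists_local_lift π inferInstance V q y hyV
  rw [← germ_res (cokernel φ) y hV₁ hyV₁ q, ← hs]
  exact germ_eq_zero_of_kill π hU y hyU (S : Set Γ(F, U)) hS W₀ hW₀U hyW₀ hkill hyV₁ s

end Groth.Agent.H5.FiltEpi
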