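import Mathlib
import Groth.Agent.Lib.Helper5.FiltEpi.D
import Groth.Agent.Lib.Lead.QC.SuppSES

set_option autoImplicit false
universe u
open CategoryTheory Limits Opposite AlgebraicGeometry TopologicalSpace

namespace Groth.Agent.H5.FiltEpi
open Groth.Agent.LD.QC

variable {X : Scheme.{u}} {J : Type u} [SmallCategory J] [IsFiltered J] (D : J ⥤ X.Modules)
  (c : Cocone D)

theorem main [CompactSpace X] (hc : IsColimit c) [hcq : c.pt.IsQuasicoherent]
    (F : X.Modules) [hFq : F.IsQuasicoherent] (hF : F.IsFiniteType) (u : c.pt ⟶ F) :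
    Epi u ↔ ∃ j₀ : J, ∀ j : J, Nonempty (j₀ ⟶ j) → Epi (c.ι.app j ≫ u) := by
  classical
  constructor
  · intro hu
    have H := fun x => exists_stage_stalk_cokernel D c hc F hF u x
    choose jx Wx hxW hstalk using H
    obtain ⟨T, hT⟩ := isCompact_univ.elim_finite_subcover (fun x => (Wx x : Set X))
      (fun x => (Wx x).2) (fun x _ => Set.mem_iUnion.mpr ⟨x, hxW x⟩)
    obtain ⟨j₀, hj₀⟩ := IsFiltered.sup_objs_exists (T.image jx)
    refine ⟨j₀, fun j hj => ?_⟩
    obtain ⟨b⟩ := hj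
    change Epi (leg D c j ≫ u)
    have hzero : IsZero (cokernel (leg D c j ≫ u)) := by
      apply (isZero_iff_subsingleton_stalks _).mpr
      intro y
      obtain ⟨x, hxT, hyx⟩ : ∃ x ∈ T, y ∈ Wx x := by
        have := hT (Set.mem_univ y)
        simpa using this
      obtain ⟨a⟩ := hj₀ (Finset.mem_image_of_mem jx hxT)
      exact hstalk x j ⟨a ≫ b⟩ y hyx
    exact Preadditive.epi_of_cokernel_zero (hzero.eq_of_tgt _ _)
  · rintro ⟨j₀, h⟩
    haveI := h j₀ ⟨𝟙 j₀⟩
    exact epi_of_epi (c.ι.app j₀) u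

end Groth.Agent.H5.FiltEpi
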